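import Cfsg.Agent.H357.Sp.Spec
import Cfsg.Agent.H357.NT

/-!
# S3397 / S3446, task S0: the spectra of the alternating and symmetric groups
-/

set_option autoImplicit false

namespace Cfsg.Agent.H267.Sp.SpecAlt

open Cfsg Cfsg.Agent.H357.Sp Equiv

/-! ### the function `W` -/

theorem W_one : W 1 = 0 := by simp [W]

/-- the contribution of `p` -/
def w (p k : ℕ) : ℕ := if p ∣ k then p ^ k.factorization p else 0

theorem W_eq {k : ℕ} (hk : k ≠ 0) {s : Finset ℕ} (hs : k.primeFactors ⊆ s) (hp : ∀ p ∈ s, p.Prime) :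
    W k = ∑ p ∈ s, w p k := by
  rw [W]
  have h1 : ∑ p ∈ k.primeFactors, p ^ k.factorization p = ∑ p ∈ k.primeFactors, w p k := by
    apply Finset.sum_congr rfl
    intro p hp
    rw [w, if_pos (Nat.dvd_of_mem_primeFactors hp)]
  rw [h1]
  apply Finset.sum_subset hs
  intro p hps hpk
  rw [w, if_neg]
  intro hd
  exact hpk (Nat.mem_primeFactors.2 ⟨hp p hps, hd, hk⟩)

theorem w_lcm_le {p a b : ℕ} (hp : p.Prime) (ha : a ≠ 0) (hb : b ≠ 0) :
    w p (a.lcm b) ≤ w p a + w p b := by
  have hl : a.lcm b ≠ 0 := Nat.lcm_ne_zero ha hb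
  by_cases h : p ∣ a.lcm b
  · rw [w, if_pos h, Nat.factorization_lcm ha hb]
    have h1 : (a.factorization ⊔ b.factorization) p = max (a.factorization p) (b.factorization p) := rfl
    rw [h1]
    rcases (Nat.Prime.dvd_lcm hp).1 h with h2 | h2
    · rcases le_total (a.factorization p) (b.factorization p) with h3 | h3
      · rw [max_eq_right h3]
        have h4 : 0 < a.factorization p := hp.factorization_pos_of_dvd ha h2
        have h5 : p ∣ b := by
          by_contra h5
          rw [Nat.factorization_eq_zero_of_not_dvd h5] at h3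
          omega
        rw [w, w, if_pos h2, if_pos h5]
        omega
      · rw [max_eq_left h3, w, if_pos h2]
        omega
    · rcases le_total (b.factorization p) (a.factorization p) with h3 | h3
      · rw [max_eq_left h3]
        have h4 : 0 < b.factorization p := hp.factorization_pos_of_dvd hb h2
        have h5 : p ∣ a := by
          by_contra h5
          rw [Nat.factorization_eq_zero_of_not_dvd h5] at h3
          omega
        rw [w, w, if_pos h2, if_pos h5]
        omega
      · rw [max_eq_right h3, w, w, if_pos h2]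
        omega
  · rw [w, if_neg h]
    omega

theorem w_two_lcm {a b : ℕ} (ha : a ≠ 0) (hb : b ≠ 0) (ha2 : Even a) (hb2 : Even b) :
    w 2 (a.lcm b) + 2 ≤ w 2 a + w 2 b := by
  have h1 : 2 ∣ a := even_iff_two_dvd.1 ha2
  have h2 : 2 ∣ b := even_iff_two_dvd.1 hb2
  have h3 : 2 ∣ a.lcm b := h1.trans (Nat.dvd_lcm_left a b)
  rw [w, w, w, if_pos h1, if_pos h2, if_pos h3, Nat.factorization_lcm ha hb]
  have h4 : (a.factorization ⊔ b.factorization) 2 = max (a.factorization 2) (b.factorization 2) := rfl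
  rw [h4]
  have h5 : 0 < a.factorization 2 := Nat.prime_two.factorization_pos_of_dvd ha h1
  have h6 : 0 < b.factorization 2 := Nat.prime_two.factorization_pos_of_dvd hb h2
  have h7 : 2 ^ 1 ≤ 2 ^ a.factorization 2 := Nat.pow_le_pow_right (by omega) h5
  have h8 : 2 ^ 1 ≤ 2 ^ b.factorization 2 := Nat.pow_le_pow_right (by omega) h6
  rcases le_total (a.factorization 2) (b.factorization 2) with h | h
  · rw [max_eq_right h]; omega
  · rw [max_eq_left h]; omega

theorem primeFactors_lcm {a b : ℕ} (ha : a ≠ 0) (hb : b ≠ 0) :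
    (a.lcm b).primeFactors = a.primeFactors ∪ b.primeFactors := by
  ext p
  rw [Finset.mem_union, Nat.mem_primeFactors, Nat.mem_primeFactors, Nat.mem_primeFactors]
  constructor
  · rintro ⟨hp, hd, -⟩
    rcases (Nat.Prime.dvd_lcm hp).1 hd with h | h
    · exact Or.inl ⟨hp, h, ha⟩
    · exact Or.inr ⟨hp, h, hb⟩
  · rintro (⟨hp, hd, -⟩ | ⟨hp, hd, -⟩)
    · exact ⟨hp, hd.trans (Nat.dvd_lcm_left a b), Nat.lcm_ne_zero ha hb⟩
    · exact ⟨hp, hd.trans (Nat.dvd_lcm_right a b), Nat.lcm_ne_zero ha hb⟩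

theorem W_lcm_le {a b : ℕ} (ha : a ≠ 0) (hb : b ≠ 0) : W (a.lcm b) ≤ W a + W b := by
  classical
  have hs : ∀ p ∈ a.primeFactors ∪ b.primeFactors, p.Prime := by
    intro p hp
    rcases Finset.mem_union.1 hp with h | h
    · exact Nat.prime_of_mem_primeFactors h
    · exact Nat.prime_of_mem_primeFactors h
  rw [W_eq (Nat.lcm_ne_zero ha hb) (primeFactors_lcm ha hb).subset hs,
    W_eq ha Finset.subset_union_left hs, W_eq hb Finset.subset_union_right hs,
    ← Finset.sum_add_distrib]
  exact Finset.sum_le_sum fun p hp => w_lcm_le (hs p hp) ha hb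

theorem W_lcm_even {a b : ℕ} (ha : a ≠ 0) (hb : b ≠ 0) (ha2 : Even a) (hb2 : Even b) :
    W (a.lcm b) + 2 ≤ W a + W b := by
  classical
  have hs : ∀ p ∈ a.primeFactors ∪ b.primeFactors, p.Prime := by
    intro p hp
    rcases Finset.mem_union.1 hp with h | h
    · exact Nat.prime_of_mem_primeFactors h
    · exact Nat.prime_of_mem_primeFactors h
  have h2 : 2 ∈ a.primeFactors ∪ b.primeFactors := Finset.mem_union_left _
    (Nat.mem_primeFactors.2 ⟨Nat.prime_two, even_iff_two_dvd.1 ha2, ha⟩)
  rw [W_eq (Nat.lcm_ne_zero ha hb) (primeFactors_lcm ha hb).subset hs,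
    W_eq ha Finset.subset_union_left hs, W_eq hb Finset.subset_union_right hs,
    ← Finset.sum_add_distrib, ← Finset.add_sum_erase _ _ h2, ← Finset.add_sum_erase _ _ h2]
  have h3 := w_two_lcm ha hb ha2 hb2
  have h4 : ∑ p ∈ (a.primeFactors ∪ b.primeFactors).erase 2, w p (a.lcm b) ≤
      ∑ p ∈ (a.primeFactors ∪ b.primeFactors).erase 2, (w p a + w p b) :=
    Finset.sum_le_sum fun p hp => w_lcm_le (hs p (Finset.mem_of_mem_erase hp)) ha hb
  omega

theorem sum_le_prod {P : Finset ℕ} {f : ℕ → ℕ} (hf : ∀ p ∈ P, 2 ≤ f p) :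
    ∑ p ∈ P, f p ≤ ∏ p ∈ P, f p := by
  classical
  induction P using Finset.induction_on with
  | empty => simp
  | insert a s ha ih =>
    rw [Finset.sum_insert ha, Finset.prod_insert ha]
    have h1 := ih fun p hp => hf p (Finset.mem_insert_of_mem hp)
    have h2 := hf a (Finset.mem_insert_self a s)
    rcases s.eq_empty_or_nonempty with rfl | ⟨b, hb⟩
    · simp
    · have h3 : f b ≤ ∑ p ∈ s, f p := Finset.single_le_sum (f := f) (fun _ _ => Nat.zero_le _) hb
      have h4 := hf b (Finset.mem_insert_of_mem hb)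
      nlinarith

theorem W_le {a : ℕ} (ha : a ≠ 0) : W a ≤ a := by
  have h1 : ∏ p ∈ a.primeFactors, p ^ a.factorization p = a := by
    conv_rhs => rw [← Nat.prod_factorization_pow_eq_self ha]
    rfl
  conv_rhs => rw [← h1]
  apply sum_le_prod
  intro p hp
  have hpp := Nat.prime_of_mem_primeFactors hp
  have := hpp.factorization_pos_of_dvd ha (Nat.dvd_of_mem_primeFactors hp)
  calc 2 ≤ p := hpp.two_le
    _ ≤ p ^ a.factorization p := Nat.le_self_pow this.ne' p

theorem lcm_ne_zero {m : Multiset ℕ} (h : ∀ a ∈ m, a ≠ 0) : m.lcm ≠ 0 := by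
  rw [Ne, Multiset.lcm_eq_zero_iff]
  intro h0
  exact h 0 h0 rfl

theorem W_lcm_sum {m : Multiset ℕ} (h : ∀ a ∈ m, a ≠ 0) : W m.lcm ≤ m.sum := by
  induction m using Multiset.induction_on with
  | empty => rw [Multiset.lcm_zero, W_one]; exact Nat.zero_le _
  | cons a m ih =>
    rw [Multiset.lcm_cons, Multiset.sum_cons]
    have h1 := ih fun b hb => h b (Multiset.mem_cons_of_mem hb)
    have h2 := h a (Multiset.mem_cons_self a m)
    have h3 : lcm a m.lcm = a.lcm m.lcm := rfl
    rw [h3]
    refine (W_lcm_le h2 (lcm_ne_zero fun b hb => h b (Multiset.mem_cons_of_mem hb))).trans ?_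
    exact Nat.add_le_add (W_le h2) h1

/-! ### prime powers with a given sum -/

theorem W_pow {p j : ℕ} (hp : p.Prime) (hj : j ≠ 0) : W (p ^ j) = p ^ j := by
  rw [W, Nat.primeFactors_prime_pow hj hp, Finset.sum_singleton, hp.factorization_pow,
    Finsupp.single_eq_same]

theorem W_mul {a b : ℕ} (ha : a ≠ 0) (hb : b ≠ 0) (h : Nat.Coprime a b) : W (a * b) = W a + W b := by
  classical
  rw [W, W, W, h.primeFactors_mul, Finset.sum_union h.disjoint_primeFactors]
  congr 1
  · apply Finset.sum_congr rfl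
    intro p hp
    rw [Nat.factorization_mul ha hb, Finsupp.add_apply,
      Nat.factorization_eq_zero_of_not_dvd (n := b) (p := p), add_zero]
    intro hd
    have := Nat.Coprime.eq_one_of_dvd (Nat.Coprime.coprime_dvd_left (Nat.dvd_of_mem_primeFactors hp) h) hd
    exact (Nat.prime_of_mem_primeFactors hp).one_lt.ne' this
  · apply Finset.sum_congr rfl
    intro p hp
    rw [Nat.factorization_mul ha hb, Finsupp.add_apply,
      Nat.factorization_eq_zero_of_not_dvd (n := a) (p := p), zero_add]
    intro hd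
    have := Nat.Coprime.eq_one_of_dvd (Nat.Coprime.coprime_dvd_left (Nat.dvd_of_mem_primeFactors hp) h.symm) hd
    exact (Nat.prime_of_mem_primeFactors hp).one_lt.ne' this

theorem W_prod {P : Finset ℕ} (hP : ∀ p ∈ P, p.Prime) : W (∏ p ∈ P, p) = ∑ p ∈ P, p := by
  classical
  induction P using Finset.induction_on with
  | empty => rw [Finset.prod_empty, W_one, Finset.sum_empty]
  | insert a s ha ih =>
    have h1 := ih fun p hp => hP p (Finset.mem_insert_of_mem hp)
    have h2 := hP a (Finset.mem_insert_self a s)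
    rw [Finset.prod_insert ha, Finset.sum_insert ha, W_mul h2.ne_zero, h1]
    · have := W_pow (j := 1) h2 one_ne_zero
      rw [pow_one] at this
      rw [this]
    · rw [Finset.prod_ne_zero_iff]
      intro p hp
      exact (hP p (Finset.mem_insert_of_mem hp)).ne_zero
    · apply Nat.Coprime.prod_right
      intro p hp
      rw [Nat.coprime_primes h2 (hP p (Finset.mem_insert_of_mem hp))]
      rintro rfl
      exact ha hp

theorem prod_pos {P : Finset ℕ} (hP : ∀ p ∈ P, p.Prime) : 0 < ∏ p ∈ P, p :=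
  Finset.prod_pos fun p hp => (hP p hp).pos

theorem odd_prod {P : Finset ℕ} (hP : ∀ p ∈ P, p.Prime) (h2 : 2 ∉ P) : Odd (∏ p ∈ P, p) := by
  classical
  induction P using Finset.induction_on with
  | empty => simp
  | insert a s ha ih =>
    rw [Finset.prod_insert ha]
    apply Odd.mul
    · apply (hP a (Finset.mem_insert_self a s)).odd_of_ne_two
      rintro rfl
      exact h2 (Finset.mem_insert_self _ s)
    · exact ih (fun p hp => hP p (Finset.mem_insert_of_mem hp)) fun h => h2 (Finset.mem_insert_of_mem h)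

/-- a table of sums of primes -/
def tabO : List (List ℕ) := [[7], [3, 5], [], [3, 7], [11], [5, 7], [13], [3, 11], [3, 5, 7], [5, 11], [17],
  [5, 13], [19], [7, 13], [3, 5, 13], [3, 19], [23], [5, 19], [5, 7, 13], [3, 23], [3, 5, 19]]

/-- the test of a row -/
def okL (l : List ℕ) (N : ℕ) : Bool := (l.all fun p => decide p.Prime) && decide l.Nodup && decide (2 ∉ l) && l.sum == N

theorem tabO_ok' : ((List.range 28).all fun N => N < 7 || N == 9 || tabO.any fun l => okL l N) = true := by
  decide +kernel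

theorem tabO_ok : ∀ N < 28, 7 ≤ N → N ≠ 9 → ∃ l ∈ tabO, (∀ p ∈ l, p.Prime) ∧ l.Nodup ∧ 2 ∉ l ∧ l.sum = N := by
  intro N hN h7 h9
  have h1 := (List.all_eq_true.1 tabO_ok') N (List.mem_range.2 hN)
  simp only [Bool.or_eq_true, decide_eq_true_eq, beq_iff_eq, List.any_eq_true] at h1
  rcases h1 with (h1 | h1) | h1
  · omega
  · omega
  · obtain ⟨l, hl, h2⟩ := h1
    simp only [okL, Bool.and_eq_true, decide_eq_true_eq, beq_iff_eq, List.all_eq_true] at h2
    exact ⟨l, hl, h2.1.1.1, h2.1.1.2, h2.1.2, h2.2⟩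

theorem odd_rep {N : ℕ} (hN : 7 ≤ N) : ∃ k, 0 < k ∧ Odd k ∧ W k = N := by
  classical
  by_cases h9 : N = 9
  · refine ⟨3 ^ 2, by norm_num, by decide, ?_⟩
    rw [W_pow Nat.prime_three two_ne_zero, h9]
    norm_num
  have key : ∃ P : Finset ℕ, (∀ p ∈ P, p.Prime) ∧ 2 ∉ P ∧ ∑ p ∈ P, p = N := by
    by_cases h : N < 28
    · obtain ⟨l, -, h1, h2, h3, h4⟩ := tabO_ok N h hN h9
      refine ⟨l.toFinset, fun p hp => h1 p (List.mem_toFinset.1 hp),
        fun h => h3 (List.mem_toFinset.1 h), ?_⟩
      rw [List.sum_toFinset (fun p => p) h2, List.map_id']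
      exact h4
    · obtain ⟨P, hP, hs⟩ := Cfsg.Agent.H357.NT.exists_rep (t := 2) (M := N) (by omega)
      exact ⟨P, fun p hp => (hP p hp).1, fun h2 => (hP 2 h2).2.1 rfl, hs⟩
  obtain ⟨P, hP, h2, hs⟩ := key
  exact ⟨∏ p ∈ P, p, prod_pos hP, odd_prod hP h2, by rw [W_prod hP, hs]⟩

theorem even_rep {N : ℕ} (hN : 7 ≤ N) : ∃ k, 0 < k ∧ Even k ∧ W k = N := by
  by_cases h8 : N = 8
  · refine ⟨2 ^ 3, by norm_num, by decide, ?_⟩
    rw [W_pow Nat.prime_two three_ne_zero, h8]
    norm_num
  by_cases h7 : N = 7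
  · refine ⟨2 ^ 1 * 5 ^ 1, by norm_num, by decide, ?_⟩
    rw [W_mul (by norm_num) (by norm_num) (by norm_num), W_pow Nat.prime_two one_ne_zero,
      W_pow Nat.prime_five one_ne_zero, h7]
    norm_num
  obtain ⟨k, hk, hodd, hW⟩ := odd_rep (N := N - 2) (by omega)
  refine ⟨2 ^ 1 * k, by omega, by simp, ?_⟩
  rw [W_mul (by norm_num) hk.ne' (by rw [pow_one]; exact (Nat.coprime_two_left).2 hodd),
    W_pow Nat.prime_two one_ne_zero, hW]
  omega

/-! ### permutations -/

/-- the prime powers of `k` -/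
def parts (k : ℕ) : Multiset ℕ := k.primeFactors.val.map fun p => p ^ k.factorization p

theorem sum_parts (k : ℕ) : (parts k).sum = W k := rfl

theorem two_le_parts {k a : ℕ} (hk : k ≠ 0) (ha : a ∈ parts k) : 2 ≤ a := by
  rw [parts, Multiset.mem_map] at ha
  obtain ⟨p, hp, rfl⟩ := ha
  have hp' : p ∈ k.primeFactors := hp
  have hpp := Nat.prime_of_mem_primeFactors hp'
  have := hpp.factorization_pos_of_dvd hk (Nat.dvd_of_mem_primeFactors hp')
  calc 2 ≤ p := hpp.two_le
    _ ≤ p ^ k.factorization p := Nat.le_self_pow this.ne' p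

theorem lcm_parts {k : ℕ} (hk : k ≠ 0) : (parts k).lcm = k := by
  apply Nat.dvd_antisymm
  · rw [Multiset.lcm_dvd]
    intro a ha
    rw [parts, Multiset.mem_map] at ha
    obtain ⟨p, -, rfl⟩ := ha
    exact Nat.ordProj_dvd k p
  · have h1 : ∏ p ∈ k.primeFactors, p ^ k.factorization p = k := by
      conv_rhs => rw [← Nat.prod_factorization_pow_eq_self hk]
      rfl
    conv_lhs => rw [← h1]
    apply Finset.prod_dvd_of_isRelPrime
    · intro p hp q hq hpq
      show IsRelPrime (p ^ k.factorization p) (q ^ k.factorization q)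
      rw [← Nat.coprime_iff_isRelPrime]
      apply Nat.Coprime.pow
      rw [Nat.coprime_primes (Nat.prime_of_mem_primeFactors hp) (Nat.prime_of_mem_primeFactors hq)]
      exact hpq
    · intro p hp
      apply Multiset.dvd_lcm
      rw [parts, Multiset.mem_map]
      exact ⟨p, hp, rfl⟩

theorem odd_part {k a : ℕ} (hk : Odd k) (ha : a ∈ parts k) : Odd a := by
  rw [parts, Multiset.mem_map] at ha
  obtain ⟨p, -, rfl⟩ := ha
  exact Odd.of_dvd_nat hk (Nat.ordProj_dvd k p)

theorem even_of_odd_parts {m : Multiset ℕ} (h : ∀ a ∈ m, Odd a) : Even (m.sum + Multiset.card m) := by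
  induction m using Multiset.induction_on with
  | empty => simp
  | cons a m ih =>
    rw [Multiset.sum_cons, Multiset.card_cons]
    obtain ⟨b, hb⟩ := ih fun c hc => h c (Multiset.mem_cons_of_mem hc)
    obtain ⟨c, hc⟩ := h a (Multiset.mem_cons_self a m)
    exact ⟨b + c + 1, by omega⟩

theorem up_perm {n : ℕ} (x : Perm (Fin n)) : W (orderOf x) ≤ n := by
  rw [← Perm.lcm_cycleType]
  refine (W_lcm_sum fun a ha => ?_).trans ?_
  · have := Perm.two_le_of_mem_cycleType ha
    omega
  · rw [Perm.sum_cycleType]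
    simpa using x.support.card_le_univ

theorem exists_even_part {m : Multiset ℕ} (h : Even m.lcm) : ∃ a ∈ m, Even a := by
  induction m using Multiset.induction_on with
  | empty => rw [Multiset.lcm_zero] at h; exact absurd h (by decide)
  | cons a m ih =>
    rw [Multiset.lcm_cons] at h
    have h1 : 2 ∣ Nat.lcm a m.lcm := even_iff_two_dvd.1 h
    rcases (Nat.Prime.dvd_lcm Nat.prime_two).1 h1 with h2 | h2
    · exact ⟨a, Multiset.mem_cons_self a m, even_iff_two_dvd.2 h2⟩
    · obtain ⟨b, hb, hb2⟩ := ih (even_iff_two_dvd.2 h2)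
      exact ⟨b, Multiset.mem_cons_of_mem hb, hb2⟩

theorem up_alt {n : ℕ} {x : Perm (Fin n)} (hx : x ∈ alternatingGroup (Fin n)) (he : Even (orderOf x)) :
    W (orderOf x) + 2 ≤ n := by
  have hx0 : ∀ a ∈ x.cycleType, a ≠ 0 := fun a ha => by
    have := Perm.two_le_of_mem_cycleType ha
    omega
  have hsum : x.cycleType.sum ≤ n := by
    rw [Perm.sum_cycleType]
    simpa using x.support.card_le_univ
  rw [← Perm.lcm_cycleType] at he ⊢
  rw [Perm.mem_alternatingGroup, Perm.sign_of_cycleType] at hx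
  generalize x.cycleType = m at *
  obtain ⟨a, ha, ha2⟩ := exists_even_part he
  obtain ⟨m', rfl⟩ := Multiset.exists_cons_of_mem ha
  by_cases h : ∀ b ∈ m', Odd b
  · exfalso
    have h1 := even_of_odd_parts h
    have h2 : Odd ((a ::ₘ m').sum + Multiset.card (a ::ₘ m')) := by
      rw [Multiset.sum_cons, Multiset.card_cons]
      obtain ⟨c, hc⟩ := h1
      obtain ⟨d, hd⟩ := ha2
      exact ⟨c + d, by omega⟩
    rw [h2.neg_one_pow] at hx
    exact absurd hx (by decide)
  · push Not at h
    obtain ⟨b, hb, hb2⟩ := h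
    rw [Nat.not_odd_iff_even] at hb2
    obtain ⟨m'', rfl⟩ := Multiset.exists_cons_of_mem hb
    have ha0 := hx0 a (Multiset.mem_cons_self _ _)
    have hb0 := hx0 b (Multiset.mem_cons_of_mem (Multiset.mem_cons_self _ _))
    have hm0 : ∀ c ∈ m'', c ≠ 0 := fun c hc =>
      hx0 c (Multiset.mem_cons_of_mem (Multiset.mem_cons_of_mem hc))
    rw [Multiset.lcm_cons, Multiset.lcm_cons]
    have e1 : lcm a (lcm b m''.lcm) = (a.lcm b).lcm m''.lcm := (Nat.lcm_assoc a b m''.lcm).symm
    rw [e1]
    have h1 := W_lcm_le (Nat.lcm_ne_zero ha0 hb0) (lcm_ne_zero hm0)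
    have h2 := W_lcm_even ha0 hb0 ha2 hb2
    have h3 := W_lcm_sum hm0
    have h4 := W_le ha0
    have h5 := W_le hb0
    rw [Multiset.sum_cons, Multiset.sum_cons] at hsum
    omega

theorem spec_perm (n : ℕ) : Spec 0 n (Equiv.Perm (Fin n)) := by
  constructor
  · intro x
    have := up_perm x
    split_ifs <;> simpa using this
  · intro k hk hW
    have hW' : W k ≤ n := by
      split_ifs at hW <;> simpa using hW
    obtain ⟨σ, hσ⟩ := (Perm.exists_with_cycleType_iff (α := Fin n) (m := parts k)).2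
      ⟨by rw [Fintype.card_fin, sum_parts]; exact hW', fun a ha => two_le_parts hk.ne' ha⟩
    exact ⟨σ, by rw [← Perm.lcm_cycleType, hσ, lcm_parts hk.ne']⟩

theorem spec_alt (n : ℕ) : Spec 2 n (alternatingGroup (Fin n)) := by
  constructor
  · rintro ⟨x, hx⟩
    rw [Subgroup.orderOf_mk]
    split_ifs with h
    · exact up_alt hx h
    · exact up_perm x
  · intro k hk hW
    rcases Nat.even_or_odd k with he | ho
    · rw [if_pos he] at hW
      have h2 : 2 ∣ k := even_iff_two_dvd.1 he
      obtain ⟨σ, hσ⟩ := (Perm.exists_with_cycleType_iff (α := Fin n) (m := 2 ::ₘ parts k)).2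
        ⟨by rw [Fintype.card_fin, Multiset.sum_cons, sum_parts]; omega, by
          intro a ha
          rcases Multiset.mem_cons.1 ha with rfl | ha
          · exact le_rfl
          · exact two_le_parts hk.ne' ha⟩
      have hσo : orderOf σ = k := by
        rw [← Perm.lcm_cycleType, hσ, Multiset.lcm_cons, lcm_parts hk.ne']
        exact Nat.lcm_eq_right h2
      refine ⟨⟨σ, ?_⟩, by rw [Subgroup.orderOf_mk, hσo]⟩
      rw [Perm.mem_alternatingGroup, Perm.sign_of_cycleType, hσ]
      apply Even.neg_one_pow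
      -- exactly one even part in `parts k`
      have h2k : 2 ∈ k.primeFactors := Nat.mem_primeFactors.2 ⟨Nat.prime_two, h2, hk.ne'⟩
      have hparts : parts k = (2 ^ k.factorization 2) ::ₘ
          ((k.primeFactors.erase 2).val.map fun p => p ^ k.factorization p) := by
        rw [parts, ← Multiset.map_cons (fun p => p ^ k.factorization p), Finset.erase_val,
          Multiset.cons_erase h2k]
      rw [hparts, Multiset.sum_cons, Multiset.card_cons, Multiset.sum_cons, Multiset.card_cons]
      have h3 : Even (((k.primeFactors.erase 2).val.map fun p => p ^ k.factorization p).sum +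
          Multiset.card ((k.primeFactors.erase 2).val.map fun p => p ^ k.factorization p)) := by
        apply even_of_odd_parts
        intro a ha
        rw [Multiset.mem_map] at ha
        obtain ⟨p, hp, rfl⟩ := ha
        have hp' : p ∈ k.primeFactors.erase 2 := hp
        rw [Finset.mem_erase] at hp'
        exact ((Nat.prime_of_mem_primeFactors hp'.2).odd_of_ne_two hp'.1).pow
      have h4 : Even (2 ^ k.factorization 2) := by
        have := Nat.prime_two.factorization_pos_of_dvd hk.ne' h2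
        exact even_two.pow_of_ne_zero this.ne' 
      obtain ⟨c, hc⟩ := h3
      obtain ⟨d, hd⟩ := h4
      exact ⟨c + d + 2, by omega⟩
    · rw [if_neg (Nat.not_even_iff_odd.2 ho), add_zero] at hW
      obtain ⟨σ, hσ⟩ := (Perm.exists_with_cycleType_iff (α := Fin n) (m := parts k)).2
        ⟨by rw [Fintype.card_fin, sum_parts]; exact hW, fun a ha => two_le_parts hk.ne' ha⟩
      refine ⟨⟨σ, ?_⟩, by rw [Subgroup.orderOf_mk, ← Perm.lcm_cycleType, hσ, lcm_parts hk.ne']⟩
      rw [Perm.mem_alternatingGroup, Perm.sign_of_cycleType, hσ]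
      exact Even.neg_one_pow (even_of_odd_parts fun a ha => odd_part ho ha)

theorem Spec.congr {ε n : ℕ} {G H : Type*} [Group G] [Group H]
    (h : Set.range (fun g : G => orderOf g) = Set.range (fun g : H => orderOf g))
    (hH : Spec ε n H) : Spec ε n G := by
  constructor
  · intro x
    have h1 : orderOf x ∈ Set.range (fun g : H => orderOf g) := by rw [← h]; exact ⟨x, rfl⟩
    obtain ⟨y, hy⟩ := h1
    have hy' : orderOf y = orderOf x := hy
    rw [← hy']
    exact hH.up y
  · intro k hk hW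
    obtain ⟨y, hy⟩ := hH.down k hk hW
    have h1 : k ∈ Set.range (fun g : G => orderOf g) := by rw [h]; exact ⟨y, hy⟩
    exact h1

theorem Spec.iff {ε n : ℕ} {G : Type*} [Group G] [Finite G] (h : Spec ε n G) {k : ℕ} (hk : 0 < k) :
    (∃ x : G, orderOf x = k) ↔ W k + (if Even k then ε else 0) ≤ n := by
  constructor
  · rintro ⟨x, rfl⟩; exact h.up x
  · exact h.down k hk

/-- two descriptions of one spectrum -/
theorem same {ε δ m n : ℕ} {G : Type*} [Group G] [Finite G] (h : Spec ε n G) (h' : Spec δ m G) {k : ℕ}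
    (hk : 0 < k) : W k + (if Even k then ε else 0) ≤ n ↔ W k + (if Even k then δ else 0) ≤ m := by
  rw [← Spec.iff h hk, ← Spec.iff h' hk]

theorem odd_same {ε δ m n : ℕ} {G : Type*} [Group G] [Finite G] (h : Spec ε n G) (h' : Spec δ m G) {N : ℕ}
    (hN : 7 ≤ N) : N ≤ n ↔ N ≤ m := by
  obtain ⟨k, hk, ho, hW⟩ := odd_rep hN
  have := same h h' hk
  simp only [if_neg (Nat.not_even_iff_odd.2 ho), add_zero, hW] at this
  exact this

theorem even_same {ε δ m n : ℕ} {G : Type*} [Group G] [Finite G] (h : Spec ε n G) (h' : Spec δ m G) {N : ℕ}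
    (hN : 7 ≤ N) : N + ε ≤ n ↔ N + δ ≤ m := by
  obtain ⟨k, hk, he, hW⟩ := even_rep hN
  have := same h h' hk
  rw [if_pos he, if_pos he, hW] at this
  exact this

theorem W4 : W 4 = 4 := by
  have := W_pow (j := 2) Nat.prime_two two_ne_zero
  norm_num at this
  exact this

theorem W5 : W 5 = 5 := by
  have := W_pow (j := 1) Nat.prime_five one_ne_zero
  norm_num at this
  exact this

theorem W6 : W 6 = 5 := by
  have := W_mul (a := 2 ^ 1) (b := 3 ^ 1) (by norm_num) (by norm_num) (by norm_num)
  rw [W_pow Nat.prime_two one_ne_zero, W_pow Nat.prime_three one_ne_zero] at this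
  norm_num at this
  exact this

theorem spec_ne_alt {ε m n : ℕ} (hε : ε = 0 ∨ ε = 2) (hn : 5 ≤ n)
    (h : Spec ε n (alternatingGroup (Fin m))) : ε = 2 ∧ m = n := by
  have h' := spec_alt m
  have o5 := same h h' (k := 5) (by norm_num)
  have e4 := same h h' (k := 4) (by norm_num)
  have e6 := same h h' (k := 6) (by norm_num)
  simp only [if_neg (show ¬ Even 5 by decide), W5, add_zero] at o5
  simp only [if_pos (show Even 4 by decide), W4] at e4
  simp only [if_pos (show Even 6 by decide), W6] at e6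
  have O := fun N (hN : 7 ≤ N) => odd_same h h' hN
  have E := fun N (hN : 7 ≤ N) => even_same h h' hN
  have O1 := O (max n 7) (le_max_right _ _)
  have O2 := O (max m 7) (le_max_right _ _)
  have E1 := E (max n 7) (le_max_right _ _)
  have E2 := E (max m 7) (le_max_right _ _)
  rcases hε with rfl | rfl
  · exfalso
    omega
  · refine ⟨rfl, ?_⟩
    omega

theorem spec_ne_perm {ε m n : ℕ} (hε : ε = 0 ∨ ε = 2) (hn : 7 ≤ n)
    (h : Spec ε n (Equiv.Perm (Fin m))) : ε = 0 ∧ m = n := by
  have h' := spec_perm m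
  have O := fun N (hN : 7 ≤ N) => odd_same h h' hN
  have E := fun N (hN : 7 ≤ N) => even_same h h' hN
  have O1 := O (max n 7) (le_max_right _ _)
  have O2 := O (max m 7) (le_max_right _ _)
  have E1 := E (max n 7) (le_max_right _ _)
  rcases hε with rfl | rfl
  · refine ⟨rfl, ?_⟩
    omega
  · exfalso
    omega

end Cfsg.Agent.H267.Sp.SpecAlt
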